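import Mathlib
import Cfsg.Agent.Lib.Helper56.TC
import Cfsg.Agent.Lib.Helper56.TCFast
import Cfsg.Agent.Lib.Helper56.Fi24U7.DA0
set_option autoImplicit false
set_option maxRecDepth 1000000

namespace Cfsg.Agent.Lib.Helper56.Fi24U7

open Cfsg.Agent.Lib.Helper56.TC Cfsg.Agent.Lib.Helper56.TC.Tabs

noncomputable def nA : List (List ℕ) := [nA0]

noncomputable def fA : List (List ℕ) := [fA0]

/-- The certificate data. -/
noncomputable def T : Tabs where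
  K := 8
  N := 1
  N' := 1
  INF := 9
  fuel := 1
  inv := fun l => l
  tg := slotFld2 nA 112 146 89202980794122492566142873090593446023921663 8 17 10 1 (fun _ => 0)
  rk := slotFld2 nA 112 146 89202980794122492566142873090593446023921663 8 17 11 15
    (fun x => Nat.rec (motive := fun _ => ℕ) 0 (fun _ _ => 9) x)
  jc := slotFld2 nA 112 146 89202980794122492566142873090593446023921663 8 17 15 4095
    (fun x => Nat.rec (motive := fun _ => ℕ) 3 (fun _ _ => 0) x)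
  dd := fldA nA 112 146 89202980794122492566142873090593446023921663 0 1
  dl := fldA nA 112 146 89202980794122492566142873090593446023921663 1 7
  qj := fldA nA 112 146 89202980794122492566142873090593446023921663 4 1
  mp := fldA nA 112 146 89202980794122492566142873090593446023921663 5 1
  mt := fldA nA 112 146 89202980794122492566142873090593446023921663 6 15
  tb := tbFld2 fA 910 18 262143 1 10 1
  rels1 := [[0, 1, 0, 1, 0, 1],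
    [0, 2, 0, 2],
    [0, 3, 0, 3],
    [0, 4, 0, 4],
    [0, 5, 0, 5],
    [0, 6, 0, 6],
    [0, 7, 0, 7],
    [1, 2, 1, 2, 1, 2],
    [1, 3, 1, 3],
    [1, 4, 1, 4],
    [1, 5, 1, 5],
    [1, 6, 1, 6],
    [1, 7, 1, 7],
    [2, 3, 2, 3, 2, 3],
    [2, 4, 2, 4],
    [2, 5, 2, 5],
    [2, 6, 2, 6],
    [2, 7, 2, 7],
    [3, 4, 3, 4, 3, 4],
    [3, 5, 3, 5],
    [3, 6, 3, 6, 3, 6],
    [3, 7, 3, 7],
    [4, 5, 4, 5, 4, 5],
    [4, 6, 4, 6],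
    [4, 7, 4, 7],
    [5, 6, 5, 6],
    [5, 7, 5, 7],
    [6, 7, 6, 7],
    [7, 6, 5, 4, 3, 2, 1, 0, 6, 5, 4, 3, 2, 1, 0, 6, 5, 4, 3, 2, 1, 0, 6, 5, 4, 3, 2, 1, 0, 6, 5, 4, 3, 2, 1, 0, 6, 5, 4, 3, 2, 1, 0, 6, 5, 4, 3, 2, 1, 0, 6, 5, 4, 3, 2, 1, 0, 6, 5, 4, 3, 2, 1, 0]]
  subs := [[0],
    [1],
    [2],
    [3],
    [4],
    [5],
    [6]]
  rx := [[0, 1, 0, 1, 0, 1],
    [0, 2, 0, 2],
    [0, 3, 0, 3],
    [0, 4, 0, 4],
    [0, 5, 0, 5],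
    [0, 6, 0, 6],
    [0, 7, 0, 7],
    [1, 2, 1, 2, 1, 2],
    [1, 3, 1, 3],
    [1, 4, 1, 4],
    [1, 5, 1, 5],
    [1, 6, 1, 6],
    [1, 7, 1, 7],
    [2, 3, 2, 3, 2, 3],
    [2, 4, 2, 4],
    [2, 5, 2, 5],
    [2, 6, 2, 6],
    [2, 7, 2, 7],
    [3, 4, 3, 4, 3, 4],
    [3, 5, 3, 5],
    [3, 6, 3, 6, 3, 6],
    [3, 7, 3, 7],
    [4, 5, 4, 5, 4, 5],
    [4, 6, 4, 6],
    [4, 7, 4, 7],
    [5, 6, 5, 6],
    [5, 7, 5, 7],
    [6, 7, 6, 7],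
    [7, 6, 5, 4, 3, 2, 1, 0, 6, 5, 4, 3, 2, 1, 0, 6, 5, 4, 3, 2, 1, 0, 6, 5, 4, 3, 2, 1, 0, 6, 5, 4, 3, 2, 1, 0, 6, 5, 4, 3, 2, 1, 0, 6, 5, 4, 3, 2, 1, 0, 6, 5, 4, 3, 2, 1, 0, 6, 5, 4, 3, 2, 1, 0],
    [0, 8],
    [1, 9],
    [2, 10],
    [3, 11],
    [4, 12],
    [5, 13],
    [6, 14]]
  RB := 65
  tpl := fldA fA 910 18 262143 0 7
  tdep := fldA fA 910 18 262143 3 1
  ol := fldA fA 910 18 262143 4 1
  oc := fldA fA 910 18 262143 5 7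
  op := fldA fA 910 18 262143 8 1
  odep := fldA fA 910 18 262143 9 1
  orep := fun c => Tabs.nth 0 [0] c

end Cfsg.Agent.Lib.Helper56.Fi24U7
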